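import Groth.Agent.Lib.BigEt.AbSections
import Groth.Agent.Lib.HTop.Submersive
import Groth.Agent.Lib.FppfPh.Main
import Mathlib.CategoryTheory.Sites.Canonical

/-!
# Relative sections of an étale sheaf form a sheaf for the ph and h topologies

V coverings are universally submersive, so relative sections descend along them.
-/

set_option autoImplicit false
set_option backward.isDefEq.respectTransparency.types false

universe w u

open CategoryTheory CategoryTheory.Limits AlgebraicGeometry Opposite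
open GrothLib.EtSite GrothLib.EtSec GrothLib.EtDescent GrothLib.BigEt

noncomputable section

namespace GrothLib.HTopEt13

variable {S : Scheme.{u}}

theorem isSheafFor_secsPsh (F : EtDesc.Sh S) {T : Over S} (R : Sieve T) {ι : Type u} (V : ι → Scheme.{u})
    (v : ∀ k, V k ⟶ T.left) (hg : ∀ k, R (Over.homMk (v k) : Over.mk (v k ≫ T.hom) ⟶ T))
    (hq : HasQuotientBC (Sigma.desc v)) : Presieve.IsSheafFor (secsPsh F) R.arrows := by
  intro x hx
  let g : ∀ k, Over.mk (v k ≫ T.hom) ⟶ T := fun k => Over.homMk (v k)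
  let a := Sigma.desc v
  haveI := hq.surjective
  obtain ⟨σ, hσ⟩ : ∃ σ : Secs (a ≫ T.hom) F, ∀ k,
      σ.res (Sigma.ι V k) rfl =
        (x (g k) (hg k)).res (𝟙 (V k)) (show 𝟙 (V k) ≫ v k ≫ T.hom = Sigma.ι V k ≫ a ≫ T.hom by
          simp [a]) := by
    refine Secs.exists_glue V (fun k => Sigma.ι V k) (fun k => inferInstance) (fun z => ?_) _
      (fun k l Ω _ _ p q η hp hq' e => ?_)
    · obtain ⟨k, y, hy⟩ := (sigmaOpenCover V).exists_eq z
      exact ⟨k, y, hy⟩
    · obtain ⟨rfl⟩ : k = l ∧ True := ⟨by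
        have h1 := congrArg (fun m : Spec (CommRingCat.of Ω) ⟶ ∐ V => m.base default) e
        exact congrArg Sigma.fst ((sigmaι_eq_iff V k l _ _).1 h1), trivial⟩
      obtain rfl : p = q := (cancel_mono (Sigma.ι V k)).1 e
      rfl
  have hval : ∀ (k : ι) (Ω : Type u) [Field Ω] [IsSepClosed Ω] (p : Spec (CommRingCat.of Ω) ⟶ V k)
      (η : Spec (CommRingCat.of Ω) ⟶ S) (h : (p ≫ Sigma.ι V k) ≫ a ≫ T.hom = η) (h' : p ≫ v k ≫ T.hom = η),
      σ.val Ω (p ≫ Sigma.ι V k) η h = (x (g k) (hg k)).val Ω p η h' := fun k Ω _ _ p η h h' => by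
    have := congrArg (fun τ : Secs (Sigma.ι V k ≫ a ≫ T.hom) F =>
      τ.val Ω p η ((Category.assoc _ _ _).symm.trans h)) (hσ k)
    exact this.trans ((x (g k) (hg k)).val_congr (Category.comp_id p) _ _)
  have split : ∀ (Ω : Type u) [Field Ω] [IsSepClosed Ω] (p : Spec (CommRingCat.of Ω) ⟶ ∐ V),
      ∃ k q, q ≫ Sigma.ι V k = p := fun Ω _ _ p => by
    obtain ⟨k, y, hy⟩ := (sigmaOpenCover V).exists_eq (p.base default)
    obtain ⟨q, hq', -⟩ := exists_lift (Sigma.ι V k) p y hy
    exact ⟨k, q, hq'⟩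
  -- agreement with any arrow of the sieve
  have agree : ∀ {T' : Over S} (g' : T' ⟶ T) (hg' : R g') (Ω : Type u) [Field Ω] [IsSepClosed Ω]
      (p : Spec (CommRingCat.of Ω) ⟶ T'.left) (r : Spec (CommRingCat.of Ω) ⟶ ∐ V)
      (η : Spec (CommRingCat.of Ω) ⟶ S) (hp : p ≫ T'.hom = η) (hr : r ≫ a ≫ T.hom = η),
      p ≫ g'.left = r ≫ a → (x g' hg').val Ω p η hp = σ.val Ω r η hr := by
    intro T' g' hg' Ω _ _ p r η hp hr e
    obtain ⟨k, q, rfl⟩ := split Ω r
    have hq' : q ≫ v k ≫ T.hom = η := by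
      rw [← hr]; simp [a]
    let P : Over.mk η ⟶ T' := Over.homMk p hp
    let Q : Over.mk η ⟶ Over.mk (v k ≫ T.hom) := Over.homMk q hq'
    have eq : P ≫ g' = Q ≫ g k := Over.OverMorphism.ext (by
      show p ≫ g'.left = q ≫ v k
      rw [e]; simp [a])
    have h := congrArg (fun τ : Secs (Over.mk η).hom F => τ.val Ω (𝟙 _) η (Category.id_comp _))
      (hx P Q hg' (hg k) eq)
    exact (((x g' hg').val_congr (Category.id_comp p).symm hp _).trans (h.trans
      ((x (g k) (hg k)).val_congr (Category.id_comp q) _ hq'))).trans (hval k Ω q η hr hq').symm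
  have hcompat : Compat a σ := fun Ω _ _ p q η hp hq' e => by
    obtain ⟨k, p', rfl⟩ := split Ω p
    have h' : p' ≫ v k ≫ T.hom = η := by rw [← hp]; simp [a]
    refine (hval k Ω p' η hp h').trans ?_
    refine agree (g k) (hg k) Ω p' q η h' hq' ?_
    show p' ≫ v k = _
    rw [← e]; simp [a]
  obtain ⟨s, hs⟩ := exists_descend hq rfl σ hcompat
  refine ⟨s, fun T' g' hg' => ?_, fun s' hs' => ?_⟩
  · refine Secs.eq_of_eqLocus _ _ fun z => ?_
    obtain ⟨y, hy⟩ := a.surjective (g'.left.base z)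
    obtain ⟨o, ho, -⟩ := Scheme.Pullback.exists_preimage_pullback (f := g'.left) (g := a) z y hy.symm
    obtain ⟨Ω, _, _, r, rfl⟩ := Secs.exists_point o
    rw [← ho]
    let p := r ≫ pullback.fst g'.left a
    let q := r ≫ pullback.snd g'.left a
    let η := p ≫ T'.hom
    have e : p ≫ g'.left = q ≫ a := by simp only [p, q, Category.assoc, pullback.condition]
    have hq' : q ≫ a ≫ T.hom = η := by
      rw [← Category.assoc, ← e, Category.assoc, Over.w g']
    refine (Secs.mem_eqLocus_iff _ _ p η rfl).2 ?_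
    refine (s.val_congr e _ ((Category.assoc _ _ _).trans hq')).trans ?_
    exact (congrArg (fun τ : Secs (a ≫ T.hom) F => τ.val Ω q η hq') hs).trans
      (agree g' hg' Ω p q η rfl hq' e).symm
  · refine res_injective (a := a) (b := T.hom) rfl ?_
    show s'.res a rfl = s.res a rfl
    rw [hs]
    refine Secs.ext' fun Ω _ _ r η hr => ?_
    obtain ⟨k, q, rfl⟩ := split Ω r
    have hq' : q ≫ v k ≫ T.hom = η := by rw [← hr]; simp [a]
    refine (s'.val_congr (show (q ≫ Sigma.ι V k) ≫ a = q ≫ v k by simp [a]) _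
      ((Category.assoc _ _ _).trans hq')).trans ?_
    exact (congrArg (fun τ : Secs (Over.mk (v k ≫ T.hom)).hom F => τ.val Ω q η hq') (hs' (g k) (hg k))).trans
      (hval k Ω q η hr hq').symm

theorem exists_hasQuotientBC_of_isVCover {T : Scheme.{u}} (E : PreZeroHypercover.{w} T)
    (hE : HTop.IsVCover E) :
    ∃ (ι : Type u) (V : ι → Scheme.{u}) (v : ∀ k, V k ⟶ T),
      (∀ k, ∃ (i : E.I₀) (h : V k ⟶ E.X i), h ≫ E.f i = v k) ∧ HasQuotientBC (Sigma.desc v) := by
  choose G hG hr using hE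
  choose i h hh using hr
  let E' : PreZeroHypercover.{u} T :=
    { I₀ := Σ U : T.affineOpens, (G U).I₀
      X := fun p => (G p.1).X p.2
      f := fun p => (G p.1).f p.2 ≫ (p.1 : T.Opens).ι }
  have hE' : HTop.IsVCover E' := fun U => ⟨G U, hG U, fun j => ⟨⟨U, j⟩, 𝟙 _, Category.id_comp _⟩⟩
  refine ⟨E'.I₀, E'.X, E'.f, fun k => ⟨i k.1 k.2, h k.1 k.2, hh k.1 k.2⟩, fun W w _ => ?_⟩
  exact GrothLib.HTop.univSubmersive_sigmaDesc_of_isVCover E' hE' _ _ _
    (IsPullback.of_hasPullback (Sigma.desc E'.f) w).flip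

/-- The sheaf property for a topology generated by V coverings. -/
theorem isSheaf_secsPsh_of_le_vPrecoverage (F : EtDesc.Sh S) (K : Precoverage Scheme.{u})
    (hK : ∀ (X : Scheme.{u}) (R : Presieve X), R ∈ K X → R ∈ HTop.vPrecoverage X) :
    Presieve.IsSheaf (K.toGrothendieck.over S) (secsPsh F) := by
  let J := Sheaf.finestTopologySingle (secsPsh F)
  suffices ∀ (X : Scheme.{u}) (T : Sieve X), T ∈ K.toGrothendieck X → ∀ (Y : Over S) (e : Y.left ⟶ X),
      (Sieve.overEquiv Y).symm (T.pullback e) ∈ J Y by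
    intro Y T hT
    have h := this Y.left _ ((GrothendieckTopology.mem_over_iff _ _).1 hT) Y (𝟙 _) Y (𝟙 _)
    rwa [Sieve.pullback_id, Sieve.pullback_id, OrderIso.symm_apply_apply] at h
  intro X T hT
  induction hT with
  | of X R hR =>
    intro Y₀ e Z k
    rw [← Sieve.overEquiv_symm_pullback, ← Sieve.pullback_comp]
    obtain ⟨E, rfl⟩ := R.exists_eq_preZeroHypercover
    have hE : HTop.IsVCover E := (HTop.presieve₀_mem_vPrecoverage_iff E).1 (hK _ _ hR)
    obtain ⟨ι, V, v, hfac, hq⟩ := exists_hasQuotientBC_of_isVCover _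
      (GrothLib.HTop.isVCover_pullback₁ (k.left ≫ e) E hE)
    refine isSheafFor_secsPsh F _ V v (fun j => ?_) hq
    obtain ⟨i, h, hh⟩ := hfac j
    refine (Sieve.overEquiv_iff _ (v j)).1 ?_
    rw [OrderIso.apply_symm_apply]
    refine ⟨_, h ≫ pullback.snd (k.left ≫ e) (E.f i), E.f i, Presieve.ofArrows.mk i, ?_⟩
    exact (Category.assoc _ _ _).trans ((congrArg (h ≫ ·) pullback.condition.symm).trans
      ((Category.assoc _ _ _).symm.trans (congrArg (· ≫ k.left ≫ e) hh)))
  | top X =>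
    intro Y e
    rw [Sieve.pullback_top]
    exact J.superset_covering (fun _ _ _ => trivial) (J.top_mem Y)
  | pullback X T _ Z f ih =>
    intro Y e
    rw [← Sieve.pullback_comp]
    exact ih Y (e ≫ f)
  | transitive X T R _ _ ih₁ ih₂ =>
    intro Y e
    refine J.transitive (ih₁ Y e) _ fun Z g hg => ?_
    rw [← Sieve.overEquiv_symm_pullback, ← Sieve.pullback_comp]
    have h2 := ih₂ (f := g.left ≫ e) hg Z (𝟙 _)
    rwa [Sieve.pullback_id] at h2

theorem isSheaf_secsPsh_ph (F : EtDesc.Sh S) : Presieve.IsSheaf (HTop.Jph S) (secsPsh F) :=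
  isSheaf_secsPsh_of_le_vPrecoverage F _ fun X R hR => by
    obtain ⟨E, rfl⟩ := R.exists_eq_preZeroHypercover
    refine (HTop.presieve₀_mem_vPrecoverage_iff E).2 fun U => ?_
    obtain ⟨G, hG, hr⟩ := ((HTop.presieve₀_mem_phPrecoverage_iff E).1 hR).2 U
    exact ⟨G, GrothLib.HTop.isStandardV_of_isStandardPh G hG, hr⟩

theorem isSheaf_secsPsh_h (F : EtDesc.Sh S) : Presieve.IsSheaf (HTop.Jh S) (secsPsh F) :=
  isSheaf_secsPsh_of_le_vPrecoverage F _ fun X R hR => by
    obtain ⟨E, rfl⟩ := R.exists_eq_preZeroHypercover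
    exact (HTop.presieve₀_mem_vPrecoverage_iff E).2 ((HTop.presieve₀_mem_hPrecoverage_iff E).1 hR).2

theorem etale_le_ph : QuotSh.J Scheme.etalePrecoverage S ≤ HTop.Jph S :=
  GrothLib.BigEt.over_mono (Precoverage.toGrothendieck_mono fun X R hR => by
    obtain ⟨E, rfl⟩ := R.exists_eq_preZeroHypercover
    obtain ⟨h1, h2⟩ := (Scheme.ofArrows_mem_precoverage_iff _).1 hR
    refine (HTop.presieve₀_mem_phPrecoverage_iff E).2 (GrothLib.FppfPh.isPhCover_of_fppf E
      (fun i => ?_) (fun i => ?_) fun t => h1 t) <;>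
      (haveI : Etale (E.f i) := h2 i; infer_instance))

theorem etale_le_h : QuotSh.J Scheme.etalePrecoverage S ≤ HTop.Jh S :=
  GrothLib.BigEt.over_mono (Precoverage.toGrothendieck_mono fun X R hR => by
    obtain ⟨E, rfl⟩ := R.exists_eq_preZeroHypercover
    obtain ⟨h1, h2⟩ := (Scheme.ofArrows_mem_precoverage_iff _).1 hR
    refine (HTop.presieve₀_mem_hPrecoverage_iff E).2 ⟨fun i => ?_, fun U => ?_⟩
    · haveI : Etale (E.f i) := h2 i
      infer_instance
    obtain ⟨G, hG, hr⟩ := (GrothLib.FppfPh.isPhCover_of_fppf E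
      (fun i => by haveI : Etale (E.f i) := h2 i; infer_instance)
      (fun i => by haveI : Etale (E.f i) := h2 i; infer_instance) fun t => h1 t).2 U
    exact ⟨G, GrothLib.HTop.isStandardV_of_isStandardPh G hG, hr⟩)

end GrothLib.HTopEt13
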