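import Groth.Agent.Lib.BigEt.AbProper
import Groth.Agent.Lib.HTopEt13.Sheaf

/-!
# The inverse image of an étale sheaf on the big ph and h sites

The constructions for topologies below the fpqc one, repeated for any topology for which the
relative sections form a sheaf.
-/

set_option autoImplicit false
universe u

open CategoryTheory CategoryTheory.Limits AlgebraicGeometry Opposite
open GrothLib.EtSite GrothLib.EtSec GrothLib.BigEt

set_option backward.isDefEq.respectTransparency.types false

noncomputable section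

namespace GrothLib.HTopEt13

section Pullback

variable {S : Scheme.{u}}

variable (J : GrothendieckTopology (Over S)) (hJ : ∀ F : EtDesc.Sh S, Presieve.IsSheaf J (secsPsh F))

/-- Relative sections as a functor to sheaves of groups. -/
def secsAbSheafFunctor : EtCoh.Ab S ⥤ Sheaf J AddCommGrpCat.{u + 1} where
  obj F := ⟨secsAb F, (Presheaf.isSheaf_iff_isSheaf_forget _ _ (forget AddCommGrpCat.{u + 1})).2
    ((isSheaf_iff_isSheaf_of_type _ _).2 (hJ (forgetSh F)))⟩
  map α := ObjectProperty.homMk ((secsAbFunctor S).map α)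
  map_id F := ObjectProperty.hom_ext _ ((secsAbFunctor S).map_id F)
  map_comp α β := ObjectProperty.hom_ext _ ((secsAbFunctor S).map_comp α β)

variable (hJ' : QuotSh.J Scheme.etalePrecoverage S ≤ J)
  [(EtFppf.a S).IsContinuous S.smallEtaleTopology J]

/-- Sections as relative sections. -/
def secsAbUnit : 𝟭 (EtCoh.Ab S) ⟶
    secsAbSheafFunctor J hJ ⋙
      (EtFppf.a S).sheafPushforwardContinuous AddCommGrpCat.{u + 1} S.smallEtaleTopology J where
  app F := ObjectProperty.homMk
    { app := fun W => AddCommGrpCat.ofHom (AddMonoidHom.mk' (fun t => secOf (forgetSh F) t) secOf_add)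
      naturality := fun W W' r => by ext t; exact secOf_map (forgetSh F) r.unop t }
  naturality F G α := by
    refine ObjectProperty.hom_ext _ ?_
    ext W t
    exact (secsMap_ofSect (forgetShMap α) (𝟙 W.unop.left) (Category.id_comp W.unop.hom) t).symm

/-- The comparison of the inverse image with relative sections. -/
def secsAbComparison :
    (EtFppf.a S).sheafPullback AddCommGrpCat.{u + 1} S.smallEtaleTopology J ⟶ secsAbSheafFunctor J hJ where
  app F := (((EtFppf.a S).sheafAdjunctionContinuous AddCommGrpCat.{u + 1} S.smallEtaleTopology J).homEquiv _ _).symm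
    ((secsAbUnit J hJ).app F)
  naturality F G α := by
    rw [← Adjunction.homEquiv_naturality_right_symm, ← Adjunction.homEquiv_naturality_left_symm]
    exact congrArg _ ((secsAbUnit J hJ).naturality α)

theorem unit_secsAbComparison (F : EtCoh.Ab S) :
    ((EtFppf.a S).sheafAdjunctionContinuous AddCommGrpCat.{u + 1} S.smallEtaleTopology J).unit.app F ≫
      ((EtFppf.a S).sheafPushforwardContinuous _ _ J).map ((secsAbComparison J hJ).app F) =
        (secsAbUnit J hJ).app F :=
  ((((EtFppf.a S).sheafAdjunctionContinuous AddCommGrpCat.{u + 1} S.smallEtaleTopology J).homEquiv_unit F _ _).symm).trans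
    (Equiv.apply_symm_apply _ _)

include hJ' in
theorem isIso_secsAbComparison (F : EtCoh.Ab S) : IsIso ((secsAbComparison J hJ).app F) := by
  let adj := (EtFppf.a S).sheafAdjunctionContinuous AddCommGrpCat.{u + 1} S.smallEtaleTopology J
  let L := (EtFppf.a S).sheafPullback AddCommGrpCat.{u + 1} S.smallEtaleTopology J
  let Φ : L.obj F ⟶ (secsAbSheafFunctor J hJ).obj F := (secsAbComparison J hJ).app F
  have hΦ : adj.unit.app F ≫ ((EtFppf.a S).sheafPushforwardContinuous _ _ J).map Φ = (secsAbUnit J hJ).app F :=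
    unit_secsAbComparison J hJ F
  obtain ⟨ψ, hψ, -⟩ := exists_unique_extAb hJ' (L.obj F) (adj.unit.app F).hom
  let Ψ : (secsAbSheafFunctor J hJ).obj F ⟶ L.obj F := ObjectProperty.homMk ψ
  refine ⟨Ψ, ?_, ?_⟩
  · refine (adj.homEquiv _ _).injective ?_
    rw [adj.homEquiv_unit, adj.homEquiv_unit, Functor.map_comp, ← Category.assoc, hΦ,
      CategoryTheory.Functor.map_id]
    refine Eq.trans ?_ (Category.comp_id _).symm
    refine ObjectProperty.hom_ext _ ?_
    ext W t
    exact hψ W.unop t
  · obtain ⟨χ, -, huniq⟩ := exists_unique_extAb hJ' ((secsAbSheafFunctor J hJ).obj F) ((secsAbUnit J hJ).app F).hom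
    refine ObjectProperty.hom_ext _ ?_
    refine ((huniq (ψ ≫ Φ.hom) fun W t => ?_).trans (huniq (𝟙 _) fun W t => rfl).symm)
    show Φ.hom.app (op ((EtFppf.a S).obj W)) (ψ.app (op ((EtFppf.a S).obj W)) (secOf (forgetSh F) (U := W) t)) = _
    refine (congrArg (Φ.hom.app (op ((EtFppf.a S).obj W))) (hψ W t)).trans ?_
    exact congrArg (fun k : F ⟶ _ => k.hom.app (op W) t) hΦ

/-- The inverse image to a big site is given by relative sections. -/
def secsAbIso :
    (EtFppf.a S).sheafPullback AddCommGrpCat.{u + 1} S.smallEtaleTopology J ≅ secsAbSheafFunctor J hJ :=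
  haveI := fun F => isIso_secsAbComparison J hJ hJ' F
  NatIso.ofComponents (fun F => asIso ((secsAbComparison J hJ).app F))
    (fun α => (secsAbComparison J hJ).naturality α)

end Pullback

section Sections

variable {S : Scheme.{u}}

/-- Sections of the inverse image to a big site. -/
def sectionsIso (J : GrothendieckTopology (Over S)) (hJ : ∀ F : EtDesc.Sh S, Presieve.IsSheaf J (secsPsh F))
    (hJ' : QuotSh.J Scheme.etalePrecoverage S ≤ J) [(EtFppf.a S).IsContinuous S.smallEtaleTopology J]
    (F : EtCoh.Ab S) {T : Scheme.{u}} (f : T ⟶ S) :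
    (((EtFppf.a S).sheafPullback AddCommGrpCat.{u + 1} S.smallEtaleTopology J).obj F).obj.obj (op (Over.mk f)) ≅
      ((EtCoh.pull f).obj F).obj.obj (op (EtCoh.top T)) :=
  ((sheafToPresheaf _ _).mapIso ((secsAbIso J hJ hJ').app F)).app (op (Over.mk f)) ≪≫
    (AddEquiv.ofBijective (topSecsHom f F) (topSecsHom_bijective f F)).symm.toAddCommGrpIso

end Sections

section Proper

variable {T S : Scheme.{u}} (f : T ⟶ S) (J : GrothendieckTopology (Over S)) (J' : GrothendieckTopology (Over T))
  (hJ'le : ∀ F : EtDesc.Sh T, Presieve.IsSheaf J' (secsPsh F))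
  [(Over.pullback f).IsContinuous J J']

/-- Direct image of the sheaf of relative sections. -/
abbrev pushSecsAb (F : EtCoh.Ab T) : Sheaf J AddCommGrpCat.{u + 1} :=
  ((Over.pullback f).sheafPushforwardContinuous AddCommGrpCat.{u + 1} J J').obj
    ((secsAbSheafFunctor J' hJ'le).obj F)

/-- Sections of a direct image as sections on base changes. -/
def pushUnitAb (F : EtCoh.Ab T) :
    ((EtCoh.push f).obj F).obj ⟶ (EtFppf.a S).op ⋙ (pushSecsAb f J J' hJ'le F).obj where
  app W := AddCommGrpCat.ofHom (AddMonoidHom.mk' (fun t => secOf (forgetSh F) (U := (EtCoh.bc f).obj W.unop) t)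
    secOf_add)
  naturality W W' r := by
    ext t
    exact NatTrans.naturality_apply (pushUnit f (forgetSh F)) r t

variable [IsProper f]

theorem exists_isIso_pushCompAb (hJ : QuotSh.J Scheme.etalePrecoverage S ≤ J) (F : EtCoh.Ab T) :
    ∃ ψ : secsAb ((EtCoh.push f).obj F) ⟶ (pushSecsAb f J J' hJ'le F).obj, IsIso ψ := by
  obtain ⟨ψ, hψ, -⟩ := exists_unique_extAb hJ (pushSecsAb f J J' hJ'le F) (pushUnitAb f J J' hJ'le F)
  let ψ' : secsPsh ((EtDesc.pushSh f).obj (forgetSh F)) ⟶ pushPsh f (forgetSh F) :=
    Functor.whiskerRight ψ (forget AddCommGrpCat.{u + 1})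
  have hψ' : ∀ (W : S.Etale) (t : EtDesc.sect ((EtDesc.pushSh f).obj (forgetSh F)) W),
      ψ'.app (op ((EtFppf.a S).obj W)) (secOf ((EtDesc.pushSh f).obj (forgetSh F)) t) =
        (pushUnit f (forgetSh F)).app (op W) t := hψ
  have e : ψ' = pushComp f (forgetSh F) :=
    (exists_unique_ext (pushPsh f (forgetSh F)) (isSheaf_pushPsh f (forgetSh F)) (pushUnit f (forgetSh F))).unique
      hψ' (pushComp_secOf f (forgetSh F))
  refine ⟨ψ, ?_⟩
  haveI : ∀ V, IsIso (ψ.app V) := fun V => by
    refine (ConcreteCategory.isIso_iff_bijective _).2 ?_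
    have h : Function.Bijective (ψ'.app V) := by
      rw [e]
      exact ⟨pushComp_injective f (forgetSh F) V.unop, pushComp_surjective f (forgetSh F) V.unop⟩
    exact h
  exact NatIso.isIso_of_isIso_app _

end Proper

end GrothLib.HTopEt13
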